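import Mathlib

/-!
# Spreading out congruences of hermitian matrices
-/

set_option autoImplicit false
set_option linter.style.haveILetI false

universe u v w x

open scoped TensorProduct Matrix

namespace Groth.Agent.HermSpread24

/-- A congruence over a localization descends to any algebra inverting a suitable element. -/
theorem exists_descend {W : Type w} {Ws : Type x} [CommRing W] [CommRing Ws] [Algebra W Ws]
    (M : Submonoid W) [IsLocalization M Ws] {n : ℕ} (σ : W →+* W) (σs : Ws →+* Ws)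
    (hσ : ∀ a, σs (algebraMap W Ws a) = algebraMap W Ws (σ a)) (hfix : ∀ m ∈ M, σ m = m)
    (h h' : Matrix (Fin n) (Fin n) W) (v : Matrix (Fin n) (Fin n) Ws) (hv : IsUnit v)
    (he : (v.map σs).transpose * h.map (algebraMap W Ws) * v = h'.map (algebraMap W Ws)) :
    ∃ m ∈ M, ∀ (W' : Type w) [CommRing W'] (φ : W →+* W') (σ' : W' →+* W'), (∀ a, σ' (φ a) = φ (σ a)) →
      IsUnit (φ m) → ∃ v' : Matrix (Fin n) (Fin n) W', IsUnit v' ∧
        (v'.map σ').transpose * h.map φ * v' = h'.map φ := by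
  classical
  obtain ⟨u, rfl⟩ := hv
  let G : Fin n × Fin n × Bool → Ws := fun i => if i.2.2 then (↑u : Matrix (Fin n) (Fin n) Ws) i.1 i.2.1 else
    (↑u⁻¹ : Matrix (Fin n) (Fin n) Ws) i.1 i.2.1
  obtain ⟨c, hc⟩ := IsLocalization.exist_integer_multiples_of_finite M G
  choose g hg using hc
  let v0 : Matrix (Fin n) (Fin n) W := Matrix.of fun i j => g (i, j, true)
  let u0 : Matrix (Fin n) (Fin n) W := Matrix.of fun i j => g (i, j, false)
  let a := algebraMap W Ws
  have hv0 : v0.map a = a c.1 • (↑u : Matrix (Fin n) (Fin n) Ws) := by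
    ext i j
    have := hg (i, j, true)
    simp only [G, if_true, Algebra.smul_def] at this
    simpa [v0, a] using this
  have hu0 : u0.map a = a c.1 • (↑u⁻¹ : Matrix (Fin n) (Fin n) Ws) := by
    ext i j
    have := hg (i, j, false)
    simp only [G, Algebra.smul_def] at this
    simpa [u0, a] using this
  have hcomm : (v0.map σ).map a = (v0.map a).map σs := by
    ext i j; simp [a, hσ]
  have e1 : (v0 * u0).map a = ((c.1 * c.1) • (1 : Matrix _ _ W)).map a := by
    rw [Matrix.map_mul, hv0, hu0, Matrix.smul_mul, Matrix.mul_smul, smul_smul, Units.mul_inv]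
    ext i j; by_cases h : i = j <;> simp [Matrix.one_apply, h]
  have e2 : ((v0.map σ).transpose * h * v0).map a = ((c.1 * c.1) • h').map a := by
    rw [Matrix.map_mul, Matrix.map_mul, Matrix.transpose_map, hcomm, hv0]
    have h1 : (a c.1 • (↑u : Matrix (Fin n) (Fin n) Ws)).map σs = a c.1 • (↑u : Matrix (Fin n) (Fin n) Ws).map σs := by
      ext i j
      simp only [Matrix.map_apply, Matrix.smul_apply, smul_eq_mul, map_mul, a]
      rw [hσ, hfix c.1 c.2]
    rw [h1, Matrix.transpose_smul, Matrix.smul_mul, Matrix.smul_mul, Matrix.mul_smul, smul_smul, he]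
    ext i j; simp [a]
  have key : ∀ P Q : Matrix (Fin n) (Fin n) W, P.map a = Q.map a → ∃ d ∈ M, d • P = d • Q := by
    intro P Q hPQ
    have hex : ∀ i : Fin n × Fin n, ∃ d : M, (d : W) * P i.1 i.2 = d * Q i.1 i.2 := fun i =>
      (IsLocalization.eq_iff_exists M Ws).1 (congrFun (congrFun hPQ i.1) i.2)
    choose d hd using hex
    refine ⟨∏ i, (d i : W), Submonoid.prod_mem _ fun i _ => (d i).2, ?_⟩
    ext i j
    simp only [Matrix.smul_apply, smul_eq_mul]
    rw [← Finset.mul_prod_erase _ _ (Finset.mem_univ (i, j))]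
    linear_combination (∏ x ∈ Finset.univ.erase (i, j), (d x : W)) * hd (i, j)
  obtain ⟨d1, hd1, f1⟩ := key _ _ e1
  obtain ⟨d2, hd2, f2⟩ := key _ _ e2
  refine ⟨c.1 * (d1 * d2), M.mul_mem c.2 (M.mul_mem hd1 hd2), fun W' _ φ σ' hσ' hm => ?_⟩
  rw [map_mul, map_mul, IsUnit.mul_iff, IsUnit.mul_iff] at hm
  obtain ⟨⟨γ, hγ⟩, h1, h2⟩ := hm
  have g1 : (v0.map φ) * (u0.map φ) = (φ c.1 * φ c.1) • 1 := by
    ext i j
    have := congrArg φ (congrFun (congrFun f1 i) j)
    simp only [Matrix.smul_apply, smul_eq_mul, map_mul] at this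
    have h' := h1.mul_left_cancel this
    rw [← Matrix.map_mul]
    by_cases hij : i = j <;> simp_all [Matrix.one_apply]
  have g2 : (((v0.map φ).map σ').transpose * h.map φ * v0.map φ) = (φ c.1 * φ c.1) • h'.map φ := by
    ext i j
    have := congrArg φ (congrFun (congrFun f2 i) j)
    simp only [Matrix.smul_apply, smul_eq_mul, map_mul] at this
    have h' := h2.mul_left_cancel this
    have e : (v0.map φ).map σ' = (v0.map σ).map φ := by ext a b; simp [hσ']
    rw [e, ← Matrix.transpose_map, ← Matrix.map_mul, ← Matrix.map_mul]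
    simpa using h'
  have hγσ : σ' (↑γ⁻¹ : W') = ↑γ⁻¹ := by
    have e : σ' (γ : W') = γ := by rw [hγ, hσ', hfix c.1 c.2]
    have h1 : σ' (↑γ⁻¹ : W') * (γ : W') = 1 := by
      conv_lhs => rw [← e]
      rw [← map_mul, Units.inv_mul, map_one]
    calc σ' (↑γ⁻¹ : W') = σ' (↑γ⁻¹ : W') * ((γ : W') * ↑γ⁻¹) := by rw [Units.mul_inv, mul_one]
      _ = ↑γ⁻¹ := by rw [← mul_assoc, h1, one_mul]
  let v' : Matrix (Fin n) (Fin n) W' := (↑γ⁻¹ : W') • v0.map φ
  have hinv : v' * ((↑γ⁻¹ : W') • u0.map φ) = 1 := by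
    rw [Matrix.smul_mul, Matrix.mul_smul, smul_smul, g1, smul_smul, ← hγ]
    rw [show (↑γ⁻¹ : W') * ↑γ⁻¹ * ((γ : W') * γ) = 1 by
      linear_combination ((↑γ⁻¹ : W') * γ + 1) * Units.inv_mul γ, one_smul]
  refine ⟨v', (IsUnit.of_mul_eq_one _ hinv), ?_⟩
  have hm1 : v'.map σ' = (↑γ⁻¹ : W') • (v0.map φ).map σ' := by
    ext i j; simp [v', hγσ]
  rw [hm1, Matrix.transpose_smul, Matrix.smul_mul, Matrix.smul_mul, Matrix.mul_smul, smul_smul, g2, smul_smul, ← hγ]
  rw [show (↑γ⁻¹ : W') * ↑γ⁻¹ * ((γ : W') * γ) = 1 by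
    linear_combination ((↑γ⁻¹ : W') * γ + 1) * Units.inv_mul γ, one_smul]

section Quot

variable {B : Type u} [CommRing B] {l : ℕ}

/-- The square root algebra with a common denominator. -/
abbrev R0 (c : B) (a : Fin l → B) : Type u :=
  MvPolynomial (Fin l) B ⧸ Ideal.span (Set.range fun k : Fin l =>
    MvPolynomial.C c * MvPolynomial.X k ^ 2 - MvPolynomial.C (a k))

/-- The square root algebra over a ring where the elements are units. -/
abbrev RL (L : Type u) [CommRing L] (s : Fin l → Lˣ) : Type u :=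
  MvPolynomial (Fin l) L ⧸ Ideal.span (Set.range fun k : Fin l =>
    MvPolynomial.X k ^ 2 - MvPolynomial.C (s k : L))

variable {L : Type u} [CommRing L] [Algebra B L] (c : B) (a : Fin l → B) (s : Fin l → Lˣ)

theorem map_span_eq (hc : IsUnit (algebraMap B L c)) (hs : ∀ k, algebraMap B L c * (s k : L) = algebraMap B L (a k)) :
    (Ideal.span (Set.range fun k : Fin l =>
      MvPolynomial.C c * MvPolynomial.X k ^ 2 - MvPolynomial.C (a k))).map (MvPolynomial.map (algebraMap B L)) =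
    Ideal.span (Set.range fun k : Fin l => MvPolynomial.X k ^ 2 - MvPolynomial.C (s k : L)) := by
  have hk : ∀ k, MvPolynomial.map (algebraMap B L)
      (MvPolynomial.C c * MvPolynomial.X k ^ 2 - MvPolynomial.C (a k)) =
      MvPolynomial.C (algebraMap B L c) * (MvPolynomial.X k ^ 2 - MvPolynomial.C (s k : L)) := fun k => by
    simp only [map_sub, map_mul, map_pow, MvPolynomial.map_C, MvPolynomial.map_X, mul_sub, ← hs k]
  rw [Ideal.map_span]
  apply le_antisymm <;> rw [Ideal.span_le]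
  · rintro _ ⟨_, ⟨k, rfl⟩, rfl⟩
    rw [SetLike.mem_coe, hk]
    exact Ideal.mul_mem_left _ _ (Ideal.subset_span ⟨k, rfl⟩)
  · rintro _ ⟨k, rfl⟩
    obtain ⟨γ, hγ⟩ := hc
    simp only [SetLike.mem_coe]
    rw [show MvPolynomial.X k ^ 2 - MvPolynomial.C (s k : L) =
      MvPolynomial.C (↑γ⁻¹ : L) * MvPolynomial.map (algebraMap B L)
        (MvPolynomial.C c * MvPolynomial.X k ^ 2 - MvPolynomial.C (a k)) by
      rw [hk, ← mul_assoc, ← map_mul, ← hγ, Units.inv_mul, map_one, one_mul]]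
    exact Ideal.mul_mem_left _ _ (Ideal.subset_span ⟨_, ⟨k, rfl⟩, rfl⟩)

/-- The comparison map. -/
noncomputable def toRL (hc : IsUnit (algebraMap B L c))
    (hs : ∀ k, algebraMap B L c * (s k : L) = algebraMap B L (a k)) : R0 c a →+* RL L s :=
  Ideal.quotientMap _ (MvPolynomial.map (algebraMap B L)) (Ideal.map_le_iff_le_comap.1 (map_span_eq c a s hc hs).le)

theorem toRL_algebraMap (hc : IsUnit (algebraMap B L c))
    (hs : ∀ k, algebraMap B L c * (s k : L) = algebraMap B L (a k)) (b : B) :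
    toRL c a s hc hs (algebraMap B (R0 c a) b) = algebraMap B (RL L s) b := by
  rw [toRL, IsScalarTower.algebraMap_apply B (MvPolynomial (Fin l) B) (R0 c a), Ideal.Quotient.algebraMap_eq,
    Ideal.quotientMap_mk, MvPolynomial.algebraMap_eq, MvPolynomial.map_C,
    IsScalarTower.algebraMap_apply B (MvPolynomial (Fin l) L) (RL L s), Ideal.Quotient.algebraMap_eq]
  rfl

theorem exists_rep (M : Submonoid B) [IsLocalization M L] (hc : IsUnit (algebraMap B L c))
    (hs : ∀ k, algebraMap B L c * (s k : L) = algebraMap B L (a k)) (z : RL L s) :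
    ∃ (r : R0 c a) (m : B), m ∈ M ∧ z * algebraMap B (RL L s) m = toRL c a s hc hs r := by
  let _ : Algebra (MvPolynomial (Fin l) B) (MvPolynomial (Fin l) L) := MvPolynomial.algebraMvPolynomial
  obtain ⟨P, rfl⟩ := Ideal.Quotient.mk_surjective z
  obtain ⟨⟨Q, ⟨_, m, hm, rfl⟩⟩, hQ⟩ := IsLocalization.surj (M.map (MvPolynomial.C (σ := Fin l))) P
  refine ⟨Ideal.Quotient.mk _ Q, m, hm, ?_⟩
  rw [toRL, Ideal.quotientMap_mk, IsScalarTower.algebraMap_apply B (MvPolynomial (Fin l) L) (RL L s),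
    Ideal.Quotient.algebraMap_eq, ← map_mul]
  congr 1
  rw [show MvPolynomial.map (algebraMap B L) Q = algebraMap (MvPolynomial (Fin l) B) (MvPolynomial (Fin l) L) Q from rfl,
    ← hQ]
  congr 1
  exact (MvPolynomial.map_C _ _).symm

theorem exists_mul_eq_zero (M : Submonoid B) [IsLocalization M L] (hc : IsUnit (algebraMap B L c))
    (hs : ∀ k, algebraMap B L c * (s k : L) = algebraMap B L (a k)) (r : R0 c a)
    (hr : toRL c a s hc hs r = 0) : ∃ m ∈ M, algebraMap B (R0 c a) m * r = 0 := by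
  let _ : Algebra (MvPolynomial (Fin l) B) (MvPolynomial (Fin l) L) := MvPolynomial.algebraMvPolynomial
  obtain ⟨Q, rfl⟩ := Ideal.Quotient.mk_surjective r
  rw [toRL, Ideal.quotientMap_mk, Ideal.Quotient.eq_zero_iff_mem, ← map_span_eq c a s hc hs] at hr
  obtain ⟨_, ⟨m, hm, rfl⟩, hmQ⟩ := (IsLocalization.algebraMap_mem_map_algebraMap_iff
    (M.map (MvPolynomial.C (σ := Fin l))) (MvPolynomial (Fin l) L) _ Q).1 hr
  refine ⟨m, hm, ?_⟩
  rw [IsScalarTower.algebraMap_apply B (MvPolynomial (Fin l) B) (R0 c a), Ideal.Quotient.algebraMap_eq, ← map_mul]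
  exact Ideal.Quotient.eq_zero_iff_mem.2 hmQ

end Quot

end Groth.Agent.HermSpread24

namespace Groth.Agent.HermSpread24

section Spread

variable {B : Type u} {A : Type v} [CommRing B] [CommRing A] [Algebra B A] (lam : A ≃ₐ[B] A) {n : ℕ}
  (h h' : Matrix (Fin n) (Fin n) A)

/-- The involution of a base change, fixing the base. -/
noncomputable def sig (C : Type u) [CommRing C] [Algebra B C] : C ⊗[B] A →+* C ⊗[B] A :=
  ((Algebra.TensorProduct.congr (AlgEquiv.refl : C ≃ₐ[C] C) lam) : C ⊗[B] A ≃ₐ[C] C ⊗[B] A).toAlgHom.toRingHom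

theorem sig_tmul (C : Type u) [CommRing C] [Algebra B C] (c : C) (a : A) :
    sig lam C (c ⊗ₜ[B] a) = c ⊗ₜ[B] lam a := rfl

/-- The congruence over a base change. -/
def HasCongr (C : Type u) [CommRing C] [Algebra B C] : Prop :=
  ∃ v : Matrix (Fin n) (Fin n) (C ⊗[B] A), IsUnit v ∧
    (v.map (sig lam C)).transpose * h.map (Algebra.TensorProduct.includeRight : A →ₐ[B] C ⊗[B] A) * v =
      h'.map (Algebra.TensorProduct.includeRight : A →ₐ[B] C ⊗[B] A)

/-- A congruence over a localization at a submonoid of the base descends to one element. -/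
theorem exists_spread (S : Submonoid B) (C0 C : Type u) [CommRing C0] [CommRing C] [Algebra B C0] [Algebra B C]
    [Algebra C0 C] [IsScalarTower B C0 C] [IsLocalization (Algebra.algebraMapSubmonoid C0 S) C]
    (hC : HasCongr lam h h' C) :
    ∃ b ∈ S, ∀ (C' : Type u) [CommRing C'] [Algebra B C'] (_ : C0 →ₐ[B] C'),
      IsUnit (algebraMap B C' b) → HasCongr lam h h' C' := by
  let ψ : C0 ⊗[B] A →ₐ[B] C ⊗[B] A := Algebra.TensorProduct.map (IsScalarTower.toAlgHom B C0 C) (AlgHom.id B A)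
  let _ : Algebra (C0 ⊗[B] A) (C ⊗[B] A) := ψ.toRingHom.toAlgebra
  haveI : IsScalarTower C0 (C0 ⊗[B] A) (C ⊗[B] A) := .of_algebraMap_eq fun x => by
    show _ = ψ (x ⊗ₜ[B] 1)
    rw [Algebra.TensorProduct.map_tmul]
    rfl
  haveI := IsLocalization.tensorProduct_tensorProduct B A (Algebra.algebraMapSubmonoid C0 S) C (by
    ext x
    show ψ ((1 : C0) ⊗ₜ[B] x) = _
    rw [Algebra.TensorProduct.map_tmul, map_one]
    rfl)
  obtain ⟨v, hv, he⟩ := hC
  have hfix : ∀ m ∈ Algebra.algebraMapSubmonoid (C0 ⊗[B] A) (Algebra.algebraMapSubmonoid C0 S),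
      sig lam C0 m = m := by
    rintro _ ⟨z, -, rfl⟩
    show sig lam C0 (z ⊗ₜ[B] 1) = _
    rw [sig_tmul, map_one]
    rfl
  have hσ : ∀ z, sig lam C (algebraMap (C0 ⊗[B] A) (C ⊗[B] A) z) =
      algebraMap (C0 ⊗[B] A) (C ⊗[B] A) (sig lam C0 z) := by
    intro z
    induction z using TensorProduct.induction_on with
    | zero => simp
    | tmul x y => rfl
    | add x y hx hy => simp only [map_add, hx, hy]
  have hh : ∀ g : Matrix (Fin n) (Fin n) A, g.map (Algebra.TensorProduct.includeRight : A →ₐ[B] C ⊗[B] A) =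
      (g.map (Algebra.TensorProduct.includeRight : A →ₐ[B] C0 ⊗[B] A)).map (algebraMap (C0 ⊗[B] A) (C ⊗[B] A)) := by
    intro g
    ext i j
    show (1 : C) ⊗ₜ[B] g i j = ψ ((1 : C0) ⊗ₜ[B] g i j)
    rw [Algebra.TensorProduct.map_tmul, map_one]
    rfl
  obtain ⟨_, ⟨_, ⟨b, hb, rfl⟩, rfl⟩, key⟩ := exists_descend _ (sig lam C0) (sig lam C) hσ hfix
    (h.map (Algebra.TensorProduct.includeRight : A →ₐ[B] C0 ⊗[B] A))
    (h'.map (Algebra.TensorProduct.includeRight : A →ₐ[B] C0 ⊗[B] A)) v hv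
    (by rw [← hh, ← hh]; exact he)
  refine ⟨b, hb, fun C' _ _ φ hu => ?_⟩
  let φ' : C0 ⊗[B] A →ₐ[B] C' ⊗[B] A := Algebra.TensorProduct.map φ (AlgHom.id B A)
  obtain ⟨v', hv', he'⟩ := key (C' ⊗[B] A) φ'.toRingHom (sig lam C') (fun z => by
    induction z using TensorProduct.induction_on with
    | zero => simp
    | tmul x y => rfl
    | add x y hx hy => simp only [map_add, hx, hy]) (by
    show IsUnit (φ' ((algebraMap B C0 b) ⊗ₜ[B] 1))
    rw [Algebra.TensorProduct.map_tmul, φ.commutes, map_one]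
    exact hu.map (Algebra.TensorProduct.includeLeftRingHom : C' →+* C' ⊗[B] A))
  refine ⟨v', hv', ?_⟩
  have hh' : ∀ g : Matrix (Fin n) (Fin n) A, g.map (Algebra.TensorProduct.includeRight : A →ₐ[B] C' ⊗[B] A) =
      (g.map (Algebra.TensorProduct.includeRight : A →ₐ[B] C0 ⊗[B] A)).map φ'.toRingHom := by
    intro g
    ext i j
    show (1 : C') ⊗ₜ[B] g i j = φ' ((1 : C0) ⊗ₜ[B] g i j)
    rw [Algebra.TensorProduct.map_tmul, map_one]
    rfl
  rw [hh', hh']
  exact he'

end Spread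

end Groth.Agent.HermSpread24
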